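import Mathlib.GroupTheory.Perm.Cycle.Type

/-!
# Orbit sums of a permutation and the sign (helper703)

* `orb σ x` : the sum of `x` over the orbits of `σ` (`x` constant on the orbits);
* `sign_eq` : `sign σ = (-1) ^ (card α + number of orbits)`;
* `sign_subtype` : for an invariant subset;
* `even_orb` : `∑_{orbits} m ≡ number of orbits with m odd`.
-/

set_option autoImplicit false

open Equiv Equiv.Perm

namespace Cfsg.Agent.H703.PR

/-- the orbits of a permutation -/
abbrev Orbits {α : Type*} (σ : Perm α) : Type _ := Quotient (SameCycle.setoid σ)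

/-- the sum over the orbits -/
noncomputable def orb {α : Type*} (σ : Perm α) (x : α → ℤ) : ℤ := ∑ᶠ o : Orbits σ, x o.out

theorem orb_eq_sum {α : Type*} (σ : Perm α) [Fintype (Orbits σ)] (x : α → ℤ) : orb σ x = ∑ o : Orbits σ, x o.out :=
  finsum_eq_sum_of_fintype _

theorem orb_add {α : Type*} [Finite α] (σ : Perm α) (x y : α → ℤ) : orb σ (x + y) = orb σ x + orb σ y := by
  have := Fintype.ofFinite (Orbits σ)
  rw [orb_eq_sum, orb_eq_sum, orb_eq_sum, ← Finset.sum_add_distrib]
  rfl

theorem orb_neg {α : Type*} [Finite α] (σ : Perm α) (x : α → ℤ) : orb σ (-x) = -orb σ x := by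
  have := Fintype.ofFinite (Orbits σ)
  rw [orb_eq_sum, orb_eq_sum, ← Finset.sum_neg_distrib]
  rfl

theorem orb_zero {α : Type*} (σ : Perm α) : orb σ (0 : α → ℤ) = 0 := by
  unfold orb
  simp

theorem out_sameCycle {α : Type*} (σ : Perm α) (a : α) :
    σ.SameCycle (Quotient.mk (SameCycle.setoid σ) a).out a :=
  Quotient.exact (Quotient.out_eq (Quotient.mk (SameCycle.setoid σ) a))

/-- an invariant function is constant on the cycles -/
theorem eq_of_sameCycle {α β : Type*} {σ : Perm α} {f : α → β} (hf : ∀ a, f (σ a) = f a) {a b : α}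
    (h : σ.SameCycle a b) : f a = f b := by
  obtain ⟨i, hi⟩ := h
  have key : ∀ (n : ℕ) (a : α), f ((σ ^ n) a) = f a := by
    intro n
    induction n with
    | zero => intro a; simp
    | succ n ih => intro a; rw [pow_succ, Perm.mul_apply, ih, hf]
  have key2 : ∀ (n : ℕ) (a : α), f ((σ ^ n)⁻¹ a) = f a := by
    intro n a
    rw [← key n ((σ ^ n)⁻¹ a)]
    simp
  obtain ⟨n, rfl | rfl⟩ := i.eq_nat_or_neg
  · rw [zpow_natCast] at hi
    rw [← hi, key]
  · rw [zpow_neg, zpow_natCast] at hi
    rw [← hi, key2]

theorem card_orbits {α : Type*} [Fintype α] [DecidableEq α] (σ : Perm α) :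
    Nat.card (Orbits σ) = Multiset.card σ.cycleType + (Finset.univ.filter fun a => a ∉ σ.support).card := by
  classical
  have := Fintype.ofFinite (Orbits σ)
  rw [Nat.card_eq_fintype_card, ← Finset.card_univ,
    ← Finset.card_filter_add_card_filter_not (s := Finset.univ) (fun o : Orbits σ => o.out ∈ σ.support)]
  congr 1
  · have hct : Multiset.card σ.cycleType = σ.cycleFactorsFinset.card := by
      rw [cycleType_def, Multiset.card_map]
      rfl
    rw [hct]
    refine Finset.card_bij (fun o _ => σ.cycleOf o.out) ?_ ?_ ?_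
    · intro o ho
      rw [cycleOf_mem_cycleFactorsFinset_iff]
      exact (Finset.mem_filter.1 ho).2
    · intro o ho o' ho' h
      have h1 := (sameCycle_iff_cycleOf_eq_of_mem_support (Finset.mem_filter.1 ho).2 (Finset.mem_filter.1 ho').2).2 h
      rw [← Quotient.out_eq o, ← Quotient.out_eq o']
      exact Quotient.sound h1
    · intro c hc
      obtain ⟨a, ha⟩ := (mem_cycleFactorsFinset_iff.1 hc).1.nonempty_support
      have hca : c = σ.cycleOf a := cycle_is_cycleOf ha hc
      have haσ : a ∈ σ.support := mem_cycleFactorsFinset_support_le hc ha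
      have h1 := out_sameCycle σ a
      refine ⟨Quotient.mk _ a, Finset.mem_filter.2 ⟨Finset.mem_univ _, ?_⟩, ?_⟩
      · exact h1.mem_support_iff.2 haσ
      · rw [hca]
        exact h1.cycleOf_eq
  · refine Finset.card_bij (fun o _ => o.out) ?_ ?_ ?_
    · intro o ho
      exact Finset.mem_filter.2 ⟨Finset.mem_univ _, (Finset.mem_filter.1 ho).2⟩
    · intro o _ o' _ h
      rw [← Quotient.out_eq o, ← Quotient.out_eq o', h]
    · intro a ha
      have h1 := out_sameCycle σ a
      have ha' : Function.IsFixedPt σ a := by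
        have := (Finset.mem_filter.1 ha).2
        rwa [notMem_support] at this
      have h2 : (Quotient.mk (SameCycle.setoid σ) a).out = a := by
        obtain ⟨i, hi⟩ := h1.symm
        rw [← hi]
        exact (zpow_apply_eq_self_of_apply_eq_self ha' i)
      refine ⟨Quotient.mk _ a, Finset.mem_filter.2 ⟨Finset.mem_univ _, ?_⟩, h2⟩
      rw [h2]
      exact (Finset.mem_filter.1 ha).2

theorem sign_eq {α : Type*} [Fintype α] [DecidableEq α] (σ : Perm α) :
    sign σ = (-1) ^ (Fintype.card α + Nat.card (Orbits σ)) := by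
  rw [sign_of_cycleType, card_orbits, sum_cycleType]
  have h1 : Fintype.card α = σ.support.card + (Finset.univ.filter fun a => a ∉ σ.support).card := by
    rw [← Finset.card_univ, ← Finset.card_filter_add_card_filter_not (s := Finset.univ) (fun a => a ∈ σ.support)]
    congr 2
    ext a
    simp
  rw [h1]
  have : σ.support.card + (Finset.univ.filter fun a => a ∉ σ.support).card +
      (Multiset.card σ.cycleType + (Finset.univ.filter fun a => a ∉ σ.support).card) =
      (σ.support.card + Multiset.card σ.cycleType) + 2 * (Finset.univ.filter fun a => a ∉ σ.support).card := by ring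
  rw [this, pow_add _ _ (2 * _), pow_mul]
  simp

theorem sameCycle_subtype {α : Type*} {σ : Perm α} {P : α → Prop} (h : ∀ a, P (σ a) ↔ P a) (a b : {a // P a}) :
    (σ.subtypePerm h).SameCycle a b ↔ σ.SameCycle a b := by
  constructor
  · rintro ⟨i, hi⟩
    refine ⟨i, ?_⟩
    rw [← hi, subtypePerm_zpow]
    rfl
  · rintro ⟨i, hi⟩
    refine ⟨i, ?_⟩
    rw [subtypePerm_zpow]
    exact Subtype.ext hi

theorem card_orbits_subtype {α : Type*} [Finite α] {σ : Perm α} {P : α → Prop} (h : ∀ a, P (σ a) ↔ P a) :
    Nat.card (Orbits (σ.subtypePerm h)) = Nat.card {o : Orbits σ // P o.out} := by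
  classical
  have hP : ∀ {a b : α}, σ.SameCycle a b → (P a ↔ P b) := fun {a b} hab =>
    Iff.of_eq (eq_of_sameCycle (f := P) (fun a => propext (h a)) hab)
  refine Nat.card_congr ⟨fun o => ⟨Quotient.mk _ (o.out : {a // P a}).1, ?_⟩,
    fun o => Quotient.mk _ ⟨o.1.out, o.2⟩, ?_, ?_⟩
  · exact (hP (out_sameCycle σ _)).2 (o.out : {a // P a}).2
  · intro o
    dsimp only
    conv_rhs => rw [← Quotient.out_eq o]
    refine Quotient.sound ?_
    change (σ.subtypePerm h).SameCycle _ _
    rw [sameCycle_subtype]
    exact out_sameCycle σ _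
  · rintro ⟨o, ho⟩
    apply Subtype.ext
    dsimp only
    conv_rhs => rw [← Quotient.out_eq o]
    refine Quotient.sound ?_
    change σ.SameCycle _ _
    exact (sameCycle_subtype h _ _).1 (out_sameCycle (σ.subtypePerm h) ⟨o.out, ho⟩)

theorem sign_subtype {α : Type*} [Fintype α] [DecidableEq α] {σ : Perm α} {P : α → Prop} [DecidablePred P]
    (h : ∀ a, P (σ a) ↔ P a) :
    sign (σ.subtypePerm h) = (-1) ^ (Fintype.card {a // P a} + Nat.card {o : Orbits σ // P o.out}) := by
  rw [sign_eq, card_orbits_subtype]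

/-- the parity of a sum -/
theorem even_sum_sub {ι : Type*} (s : Finset ι) (x : ι → ℤ) [DecidablePred fun i => Odd (x i)] :
    Even (∑ i ∈ s, x i - ((s.filter fun i => Odd (x i)).card : ℤ)) := by
  rw [Finset.card_filter, Nat.cast_sum, ← Finset.sum_sub_distrib]
  refine Finset.even_sum _ fun i _ => ?_
  split_ifs with hi
  · rw [Nat.cast_one]
    exact hi.sub_odd odd_one
  · rw [Nat.cast_zero, sub_zero]
    exact Int.not_odd_iff_even.1 hi

theorem even_orb {α : Type*} [Finite α] (σ : Perm α) (x : α → ℤ) :
    Even (orb σ x - (Nat.card {o : Orbits σ // Odd (x o.out)} : ℤ)) := by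
  classical
  have := Fintype.ofFinite (Orbits σ)
  rw [orb_eq_sum, Nat.card_eq_fintype_card, Fintype.card_subtype]
  exact even_sum_sub Finset.univ fun o : Orbits σ => x o.out

end Cfsg.Agent.H703.PR
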